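import Mathlib.RingTheory.Flat.Basic
import Mathlib.RingTheory.Finiteness.Ideal
import Mathlib.LinearAlgebra.TensorProduct.Finiteness
import Mathlib.LinearAlgebra.DirectSum.Finsupp
import Mathlib.LinearAlgebra.TensorProduct.RightExactness
import Mathlib.LinearAlgebra.TensorProduct.Tower
import Mathlib.Algebra.Module.LocalizedModule.Basic

/-!
# Flatness criterion away from and modulo an ideal: diagram chases
-/

set_option autoImplicit false
universe u

open TensorProduct

namespace Groth.Agent.FlatAway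

variable {A : Type u} [CommRing A]

/-- A flat complex `⋯ → C 1 → C 0 → M → 0`, exact at `C 0` and `M`. -/
structure FlatSeq (A : Type u) [CommRing A] (M : Type u) [AddCommGroup M] [Module A M] where
  C : ℕ → Type u
  [acg : ∀ i, AddCommGroup (C i)]
  [mod : ∀ i, Module A (C i)]
  [flat : ∀ i, Module.Flat A (C i)]
  d : ∀ i, C (i + 1) →ₗ[A] C i
  d_d : ∀ i, d i ∘ₗ d (i + 1) = 0
  aug : C 0 →ₗ[A] M
  aug_surj : Function.Surjective aug
  exact₀ : Function.Exact (d 0) aug

attribute [instance] FlatSeq.acg FlatSeq.mod FlatSeq.flat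

variable {M : Type u} [AddCommGroup M] [Module A M] (P : FlatSeq A M)

/-- `Tor_{i+1}(M, N) = 0`, seen on the complex. -/
def V (i : ℕ) (N : Type u) [AddCommGroup N] [Module A N] : Prop :=
  Function.Exact ((P.d (i + 1)).rTensor N) ((P.d i).rTensor N)

lemma d_comm (i : ℕ) {X Y : Type u} [AddCommGroup X] [Module A X] [AddCommGroup Y] [Module A Y] (g : X →ₗ[A] Y)
    (z : P.C (i + 1) ⊗[A] X) :
    (P.d i).rTensor Y (g.lTensor (P.C (i + 1)) z) = g.lTensor (P.C i) ((P.d i).rTensor X z) := by
  rw [← LinearMap.comp_apply, LinearMap.rTensor_comp_lTensor, ← LinearMap.lTensor_comp_rTensor]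
  rfl

lemma d_d_apply (i : ℕ) {X : Type u} [AddCommGroup X] [Module A X] (z : P.C (i + 2) ⊗[A] X) :
    (P.d i).rTensor X ((P.d (i + 1)).rTensor X z) = 0 := by
  rw [← LinearMap.rTensor_comp_apply, P.d_d, LinearMap.rTensor_zero, LinearMap.zero_apply]

section ses

variable {N₁ N₂ N₃ : Type u} [AddCommGroup N₁] [Module A N₁] [AddCommGroup N₂] [Module A N₂]
  [AddCommGroup N₃] [Module A N₃] {f : N₁ →ₗ[A] N₂} {g : N₂ →ₗ[A] N₃}
  (hf : Function.Injective f) (hg : Function.Surjective g) (hfg : Function.Exact f g)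

lemma lT_inj (hf : Function.Injective f) (i : ℕ) : Function.Injective (f.lTensor (P.C i)) :=
  Module.Flat.lTensor_preserves_injective_linearMap f hf

include hf hg hfg

lemma v_mid {i : ℕ} (h₁ : V P i N₁) (h₃ : V P i N₃) : V P i N₂ := by
  intro y
  refine ⟨fun hy => ?_, fun ⟨w, hw⟩ => hw ▸ d_d_apply P i w⟩
  obtain ⟨w₃, hw₃⟩ := (h₃ (g.lTensor _ y)).1 (by rw [d_comm, hy, map_zero])
  obtain ⟨w, rfl⟩ := LinearMap.lTensor_surjective _ hg w₃
  obtain ⟨y₁, hy₁⟩ := (lTensor_exact (P.C (i + 1)) hfg hg (y - (P.d (i + 1)).rTensor N₂ w)).1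
    (by rw [map_sub, ← d_comm, hw₃, sub_self])
  obtain ⟨w₁, hw₁⟩ := (h₁ y₁).1 (lT_inj P hf i (by
    rw [← d_comm, hy₁, map_sub, hy, d_d_apply, sub_self, map_zero]))
  exact ⟨w + f.lTensor _ w₁, by rw [map_add, d_comm, hw₁, hy₁, add_sub_cancel]⟩

lemma v_left {i : ℕ} (h₂ : V P i N₂) (h₃ : V P (i + 1) N₃) : V P i N₁ := by
  intro y
  refine ⟨fun hy => ?_, fun ⟨w, hw⟩ => hw ▸ d_d_apply P i w⟩
  obtain ⟨w, hw⟩ := (h₂ (f.lTensor _ y)).1 (by rw [d_comm, hy, map_zero])
  obtain ⟨v₃, hv₃⟩ := (h₃ (g.lTensor _ w)).1 (by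
    rw [d_comm, hw, ← LinearMap.lTensor_comp_apply, hfg.linearMap_comp_eq_zero, LinearMap.lTensor_zero,
      LinearMap.zero_apply])
  obtain ⟨v, rfl⟩ := LinearMap.lTensor_surjective _ hg v₃
  obtain ⟨w₁, hw₁⟩ := (lTensor_exact (P.C (i + 2)) hfg hg (w - (P.d (i + 2)).rTensor N₂ v)).1
    (by rw [map_sub, ← d_comm, hv₃, sub_self])
  refine ⟨w₁, lT_inj P hf (i + 1) ?_⟩
  rw [← d_comm, hw₁, map_sub, hw, d_d_apply, sub_zero]

lemma v_right {i : ℕ} (h₂ : V P (i + 1) N₂) (h₁ : V P i N₁) : V P (i + 1) N₃ := by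
  intro y₃
  refine ⟨fun hy => ?_, fun ⟨w, hw⟩ => hw ▸ d_d_apply P (i + 1) w⟩
  obtain ⟨y, rfl⟩ := LinearMap.lTensor_surjective _ hg y₃
  rw [d_comm] at hy
  obtain ⟨z, hz⟩ := (lTensor_exact (P.C (i + 1)) hfg hg _).1 hy
  obtain ⟨w₁, hw₁⟩ := (h₁ z).1 (lT_inj P hf i (by rw [← d_comm, hz, d_d_apply, map_zero]))
  obtain ⟨v, hv⟩ := (h₂ (y - f.lTensor _ w₁)).1 (by rw [map_sub, d_comm, hw₁, hz, sub_self])
  refine ⟨g.lTensor _ v, ?_⟩
  rw [d_comm, hv, map_sub, ← LinearMap.lTensor_comp_apply _ g f, hfg.linearMap_comp_eq_zero,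
    LinearMap.lTensor_zero, LinearMap.zero_apply, sub_zero]

lemma v_zero (hM : Function.Injective (f.lTensor M)) (h₂ : V P 0 N₂) : V P 0 N₃ := by
  intro y₃
  refine ⟨fun hy => ?_, fun ⟨w, hw⟩ => hw ▸ d_d_apply P 0 w⟩
  obtain ⟨y, rfl⟩ := LinearMap.lTensor_surjective _ hg y₃
  rw [d_comm] at hy
  obtain ⟨z, hz⟩ := (lTensor_exact (P.C 0) hfg hg _).1 hy
  have hz0 : P.aug.rTensor N₁ z = 0 := hM (by
    rw [← LinearMap.comp_apply, LinearMap.lTensor_comp_rTensor, ← LinearMap.rTensor_comp_lTensor,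
      LinearMap.comp_apply, hz, ← LinearMap.rTensor_comp_apply, P.exact₀.linearMap_comp_eq_zero,
      LinearMap.rTensor_zero, LinearMap.zero_apply, map_zero])
  obtain ⟨w₁, hw₁⟩ := (rTensor_exact N₁ P.exact₀ P.aug_surj z).1 hz0
  obtain ⟨v, hv⟩ := (h₂ (y - f.lTensor _ w₁)).1 (by rw [map_sub, d_comm, hw₁, hz, sub_self])
  refine ⟨g.lTensor _ v, ?_⟩
  rw [d_comm, hv, map_sub, ← LinearMap.lTensor_comp_apply _ g f, hfg.linearMap_comp_eq_zero,
    LinearMap.lTensor_zero, LinearMap.zero_apply, sub_zero]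

end ses

variable {I : Ideal A}

lemma finsuppRight_d (i : ℕ) {B : Type u} [AddCommGroup B] [Module A B] (S : Type u) [DecidableEq S]
    (z : P.C (i + 1) ⊗[A] (S →₀ B)) :
    TensorProduct.finsuppRight A A (P.C i) B S ((P.d i).rTensor (S →₀ B) z) =
      Finsupp.mapRange.linearMap ((P.d i).rTensor B)
        (TensorProduct.finsuppRight A A (P.C (i + 1)) B S z) := by
  induction z using TensorProduct.induction_on with
  | zero => simp only [map_zero]
  | tmul c s =>
    ext a
    simp [TensorProduct.finsuppRight_apply_tmul_apply]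
  | add x y hx hy => simp only [map_add, hx, hy]

lemma v_finsupp {B : Type u} [AddCommGroup B] [Module A B] (S : Type u) {i : ℕ} (h : V P i B) :
    V P i (S →₀ B) := by
  classical
  intro y
  refine ⟨fun hy => ?_, fun ⟨w, hw⟩ => hw ▸ d_d_apply P i w⟩
  have h1 := congrArg (TensorProduct.finsuppRight A A (P.C i) B S) hy
  rw [finsuppRight_d, map_zero] at h1
  let y' := TensorProduct.finsuppRight A A (P.C (i + 1)) B S y
  have hpt : ∀ a, ∃ w, (P.d (i + 1)).rTensor B w = y' a := fun a => (h _).1 (by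
    simpa [y'] using DFunLike.congr_fun h1 a)
  choose w hw using hpt
  let W : S →₀ P.C (i + 2) ⊗[A] B := Finsupp.onFinset y'.support (fun a => if y' a = 0 then 0 else w a) fun a ha => by
    simp only [Finsupp.mem_support_iff]
    intro h0
    simp [h0] at ha
  refine ⟨(TensorProduct.finsuppRight A A (P.C (i + 2)) B S).symm W,
    (TensorProduct.finsuppRight A A (P.C (i + 1)) B S).injective ?_⟩
  rw [finsuppRight_d, LinearEquiv.apply_symm_apply]
  ext a
  change (P.d (i + 1)).rTensor B (W a) = y' a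
  simp only [W, Finsupp.onFinset_apply]
  split_ifs with h0
  · rw [map_zero, h0]
  · exact hw a

lemma v_mod {B : Type u} [CommRing B] [Algebra A B] (hflat : Module.Flat B (B ⊗[A] M)) {r : ℕ}
    (hB : ∀ i ≤ r, V P i B) : ∀ i ≤ r, ∀ (N : Type u) [AddCommGroup N] [Module A N] [Module B N]
      [IsScalarTower A B N], V P i N := by
  intro i
  induction i with
  | zero =>
    intro hi N _ _ _ _
    let π : (N →₀ B) →ₗ[B] N := Finsupp.linearCombination B (id : N → N)
    have hπ : Function.Surjective π := fun x => ⟨Finsupp.single x 1, by simp [π]⟩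
    let fA : LinearMap.ker π →ₗ[A] (N →₀ B) := (LinearMap.ker π).subtype.restrictScalars A
    let gA : (N →₀ B) →ₗ[A] N := π.restrictScalars A
    have hfg : Function.Exact fA gA := fun x => LinearMap.exact_subtype_ker_map π x
    refine @v_zero A _ M _ _ P ↥(LinearMap.ker π) (N →₀ B) N inferInstance inferInstance inferInstance inferInstance inferInstance inferInstance fA gA Subtype.val_injective hπ hfg ?_ (v_finsupp P N (hB 0 hi))
    have hinj := Module.Flat.rTensor_preserves_injective_linearMap (M := B ⊗[A] M)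
      (LinearMap.ker π).subtype Subtype.val_injective
    have key : ∀ z, fA.rTensor M (AlgebraTensorModule.cancelBaseChange A B B (LinearMap.ker π) M z) =
          AlgebraTensorModule.cancelBaseChange A B B (N →₀ B) M
            ((LinearMap.ker π).subtype.rTensor (B ⊗[A] M) z) := by
      intro z
      induction z using TensorProduct.induction_on with
      | zero => simp only [map_zero]
      | tmul k bm =>
        induction bm using TensorProduct.induction_on with
        | zero => simp only [tmul_zero, map_zero]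
        | tmul b m => simp [fA]
        | add x y hx hy => simp only [tmul_add, map_add, hx, hy]
      | add x y hx hy => simp only [map_add, hx, hy]
    have h1 : Function.Injective (fA.rTensor M) := by
      intro x y hxy
      obtain ⟨x', rfl⟩ := (AlgebraTensorModule.cancelBaseChange A B B (LinearMap.ker π) M).surjective x
      obtain ⟨y', rfl⟩ := (AlgebraTensorModule.cancelBaseChange A B B (LinearMap.ker π) M).surjective y
      rw [key, key] at hxy
      rw [hinj ((AlgebraTensorModule.cancelBaseChange A B B (N →₀ B) M).injective hxy)]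
    have h2 : fA.lTensor M =
        (TensorProduct.comm A _ M).toLinearMap ∘ₗ fA.rTensor M ∘ₗ
          (TensorProduct.comm A M _).toLinearMap := TensorProduct.ext' fun m k => by simp
    rw [h2]
    exact (TensorProduct.comm A _ M).injective.comp (h1.comp (TensorProduct.comm A M _).injective)
  | succ i ih =>
    intro hi N _ _ _ _
    let π : (N →₀ B) →ₗ[B] N := Finsupp.linearCombination B (id : N → N)
    have hπ : Function.Surjective π := fun x => ⟨Finsupp.single x 1, by simp [π]⟩
    let fA : LinearMap.ker π →ₗ[A] (N →₀ B) := (LinearMap.ker π).subtype.restrictScalars A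
    let gA : (N →₀ B) →ₗ[A] N := π.restrictScalars A
    have hfg : Function.Exact fA gA := fun x => LinearMap.exact_subtype_ker_map π x
    exact @v_right A _ M _ _ P ↥(LinearMap.ker π) (N →₀ B) N inferInstance inferInstance inferInstance inferInstance inferInstance inferInstance fA gA Subtype.val_injective hπ hfg _ (v_finsupp P N (hB (i + 1) hi))
      (ih (Nat.le_of_succ_le hi) (LinearMap.ker π))

lemma v_pow {i : ℕ} (h : ∀ (N : Type u) [AddCommGroup N] [Module A N], (∀ a ∈ I, ∀ x : N, a • x = 0) → V P i N) :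
    ∀ (e : ℕ) (N : Type u) [AddCommGroup N] [Module A N], (∀ a ∈ I ^ e, ∀ x : N, a • x = 0) → V P i N := by
  intro e
  induction e with
  | zero =>
    intro N _ _ hN
    exact h N fun a _ x => by rw [← one_smul A x, hN 1 (by rw [pow_zero, Ideal.one_eq_top]; trivial) x, smul_zero]
  | succ e ih =>
    intro N _ _ hN
    let W : Submodule A N := I • ⊤
    refine v_mid P W.injective_subtype W.mkQ_surjective (LinearMap.exact_subtype_mkQ W) (ih W ?_) (h (N ⧸ W) ?_)
    · intro a ha x
      refine Subtype.ext ?_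
      change a • (x : N) = 0
      refine Submodule.smul_induction_on (p := fun z => a • z = 0) x.2 (fun b hb z _ => ?_) fun y z hy hz => ?_
      · rw [← mul_smul]
        exact hN _ (by rw [pow_succ]; exact Ideal.mul_mem_mul ha hb) z
      · rw [smul_add, hy, hz, add_zero]
    · intro a ha x
      obtain ⟨z, rfl⟩ := W.mkQ_surjective x
      rw [← map_smul]
      exact (Submodule.Quotient.mk_eq_zero W).2 (Submodule.smul_mem_smul ha trivial)

lemma v_torsion (hI : I.FG) {i : ℕ}
    (h : ∀ (N : Type u) [AddCommGroup N] [Module A N], (∀ a ∈ I, ∀ x : N, a • x = 0) → V P i N)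
    (N : Type u) [AddCommGroup N] [Module A N] (hN : ∀ x : N, I ≤ Ideal.radical (LinearMap.ker (LinearMap.toSpanSingleton A N x))) :
    V P i N := by
  intro y
  refine ⟨fun hy => ?_, fun ⟨w, hw⟩ => hw ▸ d_d_apply P i w⟩
  obtain ⟨N₀, hfin, hle⟩ := TensorProduct.exists_finite_submodule_right_of_setFinite {y} (Set.finite_singleton y)
  obtain ⟨y₀, rfl⟩ := hle rfl
  obtain ⟨G, hG⟩ := hfin.fg_top
  have hrad : I ≤ Ideal.radical (G.inf fun x => LinearMap.ker (LinearMap.toSpanSingleton A N x.1)) := by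
    intro a ha
    choose k hk using fun x : N₀ => hN x.1 ha
    refine ⟨G.sup k, Submodule.mem_finsetInf.2 fun x hx => ?_⟩
    obtain ⟨d, hd⟩ := Nat.exists_eq_add_of_le (Finset.le_sup (f := k) hx)
    rw [hd, pow_add]
    exact Ideal.mul_mem_right _ _ (hk x)
  obtain ⟨e, he⟩ := Ideal.exists_pow_le_of_le_radical_of_fg hrad hI
  have h0 : ∀ a ∈ I ^ e, ∀ x : N₀, a • x = 0 := by
    intro a ha x
    have hx : x ∈ Submodule.span A (G : Set N₀) := hG ▸ Submodule.mem_top
    induction hx using Submodule.span_induction with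
    | mem z hz => exact Subtype.ext (by simpa using Submodule.mem_finsetInf.1 (he ha) z hz)
    | zero => exact smul_zero _
    | add z w _ _ hz hw => rw [smul_add, hz, hw, add_zero]
    | smul c z _ hz => rw [smul_comm, hz, smul_zero]
  obtain ⟨w₀, hw₀⟩ := (v_pow P h e N₀ h0 y₀).1 (lT_inj P N₀.injective_subtype i (by rw [← d_comm, hy, map_zero]))
  exact ⟨N₀.subtype.lTensor _ w₀, by rw [d_comm, hw₀]⟩

lemma v_bijective {a : A} {i : ℕ} {N : Type u} [AddCommGroup N] [Module A N]
    (hbij : Function.Bijective fun x : N => a • x)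
    (hloc : ∀ y : P.C (i + 1) ⊗[A] N, (P.d i).rTensor N y = 0 →
      ∃ (k : ℕ) (w : _), (P.d (i + 1)).rTensor N w = a ^ k • y) : V P i N := by
  intro y
  refine ⟨fun hy => ?_, fun ⟨w, hw⟩ => hw ▸ d_d_apply P i w⟩
  obtain ⟨k, w, hw⟩ := hloc y hy
  let g : N ≃ₗ[A] N := LinearEquiv.ofBijective (a • LinearMap.id) hbij
  let gk : N →ₗ[A] N := g.symm.toLinearMap ^ k
  refine ⟨gk.lTensor _ w, ?_⟩
  rw [d_comm, hw, map_smul]
  have hk : ∀ (m : ℕ) (x : N), a ^ m • (g.symm.toLinearMap ^ m) x = x := by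
    intro m
    induction m with
    | zero => intro x; simp
    | succ m ih =>
      intro x
      rw [pow_succ', pow_succ, mul_smul]
      change a • a ^ m • (g.symm.toLinearMap ^ m) (g.symm x) = x
      rw [ih]
      exact g.apply_symm_apply x
  rw [← map_smul, map_smul, ← LinearMap.smul_apply, ← LinearMap.lTensor_smul,
    show a ^ k • gk = LinearMap.id from LinearMap.ext (hk k), LinearMap.lTensor_id]
  rfl

lemma v_all {r : ℕ} (a : Fin r → A)
    (hI : ∀ i ≤ r, ∀ (N : Type u) [AddCommGroup N] [Module A N],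
      (∀ x : N, ∀ l, ∃ k : ℕ, a l ^ k • x = 0) → V P i N)
    (hloc : ∀ (l : Fin r) (i : ℕ) (N : Type u) [AddCommGroup N] [Module A N],
      ∀ y : P.C (i + 1) ⊗[A] N, (P.d i).rTensor N y = 0 →
        ∃ (k : ℕ) (w : _), (P.d (i + 1)).rTensor N w = a l ^ k • y) :
    ∀ d ≤ r, ∀ (N : Type u) [AddCommGroup N] [Module A N],
      (∀ x : N, ∀ l : Fin r, (l : ℕ) < r - d → ∃ k : ℕ, a l ^ k • x = 0) → ∀ i ≤ r - d, V P i N := by
  intro d
  induction d with
  | zero =>
    intro _ N _ _ hN i hi
    exact hI i hi N fun x l => hN x l l.2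
  | succ d ih =>
    intro hd N _ _ hN i hi
    let l : Fin r := ⟨r - (d + 1), by omega⟩
    have hN' : ∀ (X : Type u) [AddCommGroup X] [Module A X],
        (∀ x : X, ∀ m : Fin r, (m : ℕ) < r - (d + 1) → ∃ k : ℕ, a m ^ k • x = 0) →
        (∀ x : X, ∃ k : ℕ, a l ^ k • x = 0) → ∀ j ≤ r - d, V P j X := fun X _ _ h1 h2 =>
      ih (Nat.le_of_succ_le hd) X fun x m hm => by
        rcases Nat.lt_or_ge (m : ℕ) (r - (d + 1)) with h | h
        · exact h1 x m h
        · obtain rfl : m = l := Fin.ext (by simp only [l]; omega)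
          exact h2 x
    let S := Submonoid.powers (a l)
    let L := LocalizedModule.mkLinearMap S N
    let T := LinearMap.ker L
    have hT : V P i T := hN' T
      (fun x m hm => by
        obtain ⟨k, hk⟩ := hN x.1 m hm
        exact ⟨k, Subtype.ext hk⟩)
      (fun x => by
        obtain ⟨⟨_, k, rfl⟩, hk⟩ := (IsLocalizedModule.eq_zero_iff S L).1 (LinearMap.mem_ker.1 x.2)
        exact ⟨k, Subtype.ext hk⟩) i (by omega)
    let R := LinearMap.range L
    have hQ : V P (i + 1) (LocalizedModule S N ⧸ R) := hN' (LocalizedModule S N ⧸ R)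
      (fun x m hm => by
        obtain ⟨z, rfl⟩ := R.mkQ_surjective x
        induction z using LocalizedModule.induction_on with
        | h n s =>
          obtain ⟨k, hk⟩ := hN n m hm
          exact ⟨k, by rw [← map_smul, LocalizedModule.smul'_mk, hk, LocalizedModule.zero_mk, map_zero]⟩)
      (fun x => by
        obtain ⟨z, rfl⟩ := R.mkQ_surjective x
        induction z using LocalizedModule.induction_on with
        | h n s =>
          obtain ⟨k, hk⟩ := s.2
          refine ⟨k, ?_⟩
          rw [← map_smul]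
          refine (Submodule.Quotient.mk_eq_zero R).2 ⟨n, ?_⟩
          rw [LocalizedModule.smul'_mk, LocalizedModule.mkLinearMap_apply, LocalizedModule.mk_eq]
          refine ⟨1, ?_⟩
          simp only [one_smul, Submonoid.smul_def, ← hk]) (i + 1) (by omega)
    have hL : V P i (LocalizedModule S N) :=
      v_bijective P (a := a l) ((Module.End.isUnit_iff _).1
        (IsLocalizedModule.map_units L ⟨a l, Submonoid.mem_powers _⟩)) (hloc l i _)
    exact v_mid P (f := T.subtype) (g := L.rangeRestrict) Subtype.val_injective L.surjective_rangeRestrict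
      (LinearMap.exact_iff.2 (by rw [Submodule.range_subtype, LinearMap.ker_rangeRestrict]))
      hT (v_left P (f := R.subtype) (g := R.mkQ) Subtype.val_injective R.mkQ_surjective
        (LinearMap.exact_subtype_mkQ R) hL hQ)

end Groth.Agent.FlatAway
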