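import Groth.Agent.FlatAway.Chase
import Groth.Agent.FTorColim.Balance
import Groth.Agent.FTorColim.Vanish
import Groth.Agent.TorFlatBC.Basic
import Mathlib.RingTheory.Localization.BaseChange
import Mathlib.RingTheory.Flat.Localization

/-!
# Flatness criterion away from and modulo an ideal
-/

set_option autoImplicit false
universe u

open CategoryTheory CategoryTheory.Limits MonoidalCategory TensorProduct

namespace Groth.Agent.FlatAway

variable {A : Type u} [CommRing A] (M : ModuleCat.{u} A)

/-- The chosen projective resolution as a flat sequence. -/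
noncomputable def seq : FlatSeq A M where
  C i := (projectiveResolution M).complex.X i
  flat i :=
    haveI : Module.Projective A ((projectiveResolution M).complex.X i) :=
      (IsProjective.iff_projective _).2 ((projectiveResolution M).projective i)
    inferInstance
  d i := ((projectiveResolution M).complex.d (i + 1) i).hom
  d_d i := congrArg ModuleCat.Hom.hom ((projectiveResolution M).complex.d_comp_d (i + 2) (i + 1) i)
  aug := ((projectiveResolution M).π.f 0).hom
  aug_surj := (ModuleCat.epi_iff_surjective _).1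
    (inferInstance : Epi ((projectiveResolution M).π.f 0))
  exact₀ := (ShortComplex.ShortExact.moduleCat_exact_iff_function_exact _).1 (projectiveResolution M).exact₀

/-- The complex computing `Tor(M, N)`. -/
noncomputable abbrev torCx (N : ModuleCat.{u} A) : ChainComplex (ModuleCat.{u} A) ℕ :=
  ((tensorRight N).mapHomologicalComplex (ComplexShape.down ℕ)).obj (projectiveResolution M).complex

lemma v_iff (N : ModuleCat.{u} A) (i : ℕ) :
    V (seq M) i N ↔ IsZero (((CategoryTheory.Tor (ModuleCat.{u} A) (i + 1)).obj M).obj N) := by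
  obtain ⟨e⟩ := FTorColim.nonempty_tor_iso (i + 1) M N (projectiveResolution M)
  rw [e.isZero_iff, ← HomologicalComplex.exactAt_iff_isZero_homology,
    HomologicalComplex.exactAt_iff' _ (i + 2) (i + 1) i (by simp) (by simp),
    ShortComplex.ShortExact.moduleCat_exact_iff_function_exact]
  rfl

lemma exists_pow_smul_eq_zero (a : A) (T : ModuleCat.{u} A)
    (h : IsZero ((ModuleCat.extendScalars.{u, u, u} (algebraMap A (Localization.Away a))).obj T)) (x : T) :
    ∃ k : ℕ, a ^ k • x = 0 := by
  haveI := ModuleCat.subsingleton_of_isZero h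
  haveI : Subsingleton (Localization.Away a ⊗[A] T) :=
    (DRingPC.extendLEquiv A (Localization.Away a) T).toEquiv.subsingleton
  haveI : IsLocalizedModule (Submonoid.powers a) (TensorProduct.mk A (Localization.Away a) T 1) :=
    (isLocalizedModule_iff_isBaseChange (Submonoid.powers a) (Localization.Away a) _).2
      (TensorProduct.isBaseChange A T (Localization.Away a))
  obtain ⟨⟨_, k, rfl⟩, hk⟩ := (IsLocalizedModule.eq_zero_iff (Submonoid.powers a)
    (TensorProduct.mk A (Localization.Away a) T 1) (m := x)).1 (Subsingleton.elim _ _)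
  exact ⟨k, hk⟩

lemma v_loc (a : A) (h : Module.Flat (Localization.Away a) (LocalizedModule (Submonoid.powers a) M))
    (N : ModuleCat.{u} A) (i : ℕ) (y : TensorProduct A ((seq M).C (i + 1)) N)
    (hy : ((seq M).d i).rTensor N y = 0) :
    ∃ (k : ℕ) (w : _), ((seq M).d (i + 1)).rTensor N w = a ^ k • y := by
  let F := ModuleCat.extendScalars.{u, u, u} (algebraMap A (Localization.Away a))
  haveI : Module.Flat A (Localization.Away a) := IsLocalization.flat _ (Submonoid.powers a)
  haveI : Module.Flat (Localization.Away a) (F.obj M) := by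
    haveI : Module.Flat (Localization.Away a) (Localization.Away a ⊗[A] M) :=
      Module.Flat.of_linearEquiv (LocalizedModule.equivTensorProduct (Submonoid.powers a) M).symm
    exact Module.Flat.of_linearEquiv (DRingPC.extendLEquiv A (Localization.Away a) M).symm
  obtain ⟨e⟩ := TorFlatBC.nonempty_tor_iso A (Localization.Away a) M N (i + 1)
  have hz := (FTorColim.isZero_tor_succ_of_flat (F.obj M) (F.obj N) i).of_iso e
  obtain ⟨b⟩ := FTorColim.nonempty_tor_iso (i + 1) M N (projectiveResolution M)
  let S := (torCx M N).sc' (i + 2) (i + 1) i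
  let c := b ≪≫ ShortComplex.homologyMapIso ((torCx M N).isoSc' (i + 2) (i + 1) i (by simp) (by simp)) ≪≫
    S.moduleCatHomologyIso
  have hz' : IsZero (F.obj S.moduleCatLeftHomologyData.H) := hz.of_iso (F.mapIso c).symm
  let y' : LinearMap.ker S.g.hom := ⟨y, hy⟩
  obtain ⟨k, hk⟩ := exists_pow_smul_eq_zero a _ hz' (S.moduleCatLeftHomologyData.π y')
  rw [← map_smul] at hk
  obtain ⟨w, hw⟩ := (Submodule.Quotient.mk_eq_zero _).1 hk
  exact ⟨k, w, congrArg Subtype.val hw⟩

theorem flat_of_away_of_quotient {r : ℕ} (f : Fin r → A)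
    (h1 : ∀ i, Module.Flat (Localization.Away (f i)) (LocalizedModule (Submonoid.powers (f i)) M))
    (h2 : Module.Flat (A ⧸ Ideal.span (Set.range f)) ((A ⧸ Ideal.span (Set.range f)) ⊗[A] M))
    (h3 : ∀ i : ℕ, 1 ≤ i → i ≤ r + 1 →
      IsZero (((CategoryTheory.Tor (ModuleCat.{u} A) i).obj M).obj (ModuleCat.of A (A ⧸ Ideal.span (Set.range f))))) :
    Module.Flat A M := by
  let I := Ideal.span (Set.range f)
  have hB : ∀ i ≤ r, V (seq M) i (A ⧸ I) := fun i hi =>
    (v_iff M (ModuleCat.of A (A ⧸ I)) i).2 (h3 (i + 1) (Nat.le_add_left 1 i) (by omega))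
  have hkill : ∀ i ≤ r, ∀ (N : Type u) [AddCommGroup N] [Module A N], (∀ a ∈ I, ∀ x : N, a • x = 0) →
      V (seq M) i N := fun i hi N _ _ hN => by
    have hI : Module.IsTorsionBySet A N (I : Set A) := fun x a => hN a.1 a.2 x
    letI := hI.module
    haveI : IsScalarTower A (A ⧸ I) N := hI.isScalarTower
    exact v_mod (seq M) h2 hB i hi N
  have hFG : I.FG := Submodule.fg_span (Set.finite_range f)
  have hall := v_all (seq M) f
    (fun i hi N _ _ hN => v_torsion (seq M) hFG (hkill i hi) N fun x => Ideal.span_le.2 (by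
      rintro _ ⟨l, rfl⟩
      obtain ⟨k, hk⟩ := hN x l
      exact ⟨k, by simpa using hk⟩))
    (fun l i N _ _ y hy => v_loc M (f l) (h1 l) (ModuleCat.of A N) i y hy) r le_rfl
  refine FTorColim.flat_of_tor_one_fg fun J _ => (v_iff M (ModuleCat.of A (A ⧸ J)) 0).1 ?_
  exact hall (A ⧸ J) (fun x l hl => absurd hl (by omega)) 0 (Nat.zero_le _)

end Groth.Agent.FlatAway
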